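import Cfsg.Agent.H165.RV.HexRows
import Cfsg.Agent.H527.Co3.Asm
import Cfsg.Agent.S1069

/-!
# S1920, case B: `G₂(q)`, `³D₄(q)`, `q` odd, and the Ree groups (helper165)

`N₀ / ⟨z⟩ = 2⁵` embeds in `PGL₂(F₁) × PGL₂(F₄)`, whose `2`-rank is at most `4`.
-/

set_option autoImplicit false

namespace Cfsg.Agent.H165.Co3

open Matrix Subgroup Cfsg Cfsg.Agent.Lib.SL2Mat Cfsg.Agent.Cit.HexBase Cfsg.Agent.H165.RV.Hex
open Cfsg.Agent.H13.Co3 (CB)

universe u

/-- `PGL₂` has `2`-rank at most `2`. -/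
theorem card_le_four {K : Type*} [Field K] (h2 : (2 : K) ≠ 0) {I : Subgroup (MulAut (SL K))} [Finite I]
    (hI : ∀ a ∈ I, (∃ M : GL (Fin 2) K, a = conjGL M) ∧ a * a = 1) : Nat.card I ≤ 4 := by
  classical
  by_contra hlt
  have := Fintype.ofFinite I
  have hpick : ∀ T : Finset I, T.card < 5 → ∃ x : I, x ∉ T := by
    intro T hT
    by_contra hcon
    push Not at hcon
    have h1 : T = Finset.univ := Finset.eq_univ_iff_forall.mpr hcon
    rw [h1, Finset.card_univ, ← Nat.card_eq_fintype_card] at hT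
    omega
  have hcomm : ∀ x y : I, x * y = y * x := by
    intro x y
    have hx1 : x⁻¹ = x := inv_eq_of_mul_eq_one_left (Subtype.ext (hI x x.2).2)
    have hy1 : y⁻¹ = y := inv_eq_of_mul_eq_one_left (Subtype.ext (hI y y.2).2)
    have hxy : (x * y)⁻¹ = x * y := inv_eq_of_mul_eq_one_left (Subtype.ext (hI _ (x * y).2).2)
    calc x * y = (x * y)⁻¹ := hxy.symm
      _ = y * x := by rw [_root_.mul_inv_rev, hx1, hy1]
  obtain ⟨a, ha⟩ := hpick {1} (by simp)
  obtain ⟨b, hb⟩ := hpick {1, a} (lt_of_le_of_lt (Finset.card_le_two) (by norm_num))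
  obtain ⟨d, hd⟩ := hpick {1, a, b, a * b} (lt_of_le_of_lt (Finset.card_le_four) (by norm_num))
  simp only [Finset.mem_insert, Finset.mem_singleton, not_or] at ha hb hd
  obtain ⟨A, hA⟩ := (hI a a.2).1
  obtain ⟨B, hB⟩ := (hI b b.2).1
  obtain ⟨D, hD⟩ := (hI d d.2).1
  have key : ∀ (x : I) (M : GL (Fin 2) K), (x : MulAut (SL K)) = conjGL M → x ≠ 1 →
      conjGL M ≠ 1 ∧ conjGL M * conjGL M = 1 := by
    intro x M hM hx
    rw [← hM]
    exact ⟨fun h => hx (Subtype.ext h), (hI x x.2).2⟩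
  have ne_of : ∀ {x y w : I}, y ≠ w * x → x * y ≠ w := by
    intro x y w h h1
    apply h
    have hx1 : x⁻¹ = x := inv_eq_of_mul_eq_one_left (Subtype.ext (hI x x.2).2)
    calc y = x⁻¹ * (x * y) := by group
      _ = w * x := by rw [h1, hx1, hcomm x w]
  have hab : a * b ≠ 1 := ne_of (by rw [one_mul]; exact hb.2)
  have had : a * d ≠ 1 := ne_of (by rw [one_mul]; exact hd.2.1)
  have hbd : b * d ≠ 1 := ne_of (by rw [one_mul]; exact hd.2.2.1)
  have habd : a * b * d ≠ 1 := ne_of (by rw [one_mul]; exact hd.2.2.2)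
  refine no_eight h2 (A := A) (B := B) (C := D) ?_
  intro M hM
  simp only [Set.mem_insert_iff, Set.mem_singleton_iff] at hM
  have hmul : ∀ {x y : I} {M N : GL (Fin 2) K}, (x : MulAut (SL K)) = conjGL M → (y : MulAut (SL K)) = conjGL N →
      ((x * y : I) : MulAut (SL K)) = conjGL (M * N) := by
    intro x y M N h1 h2
    rw [map_mul, ← h1, ← h2]; rfl
  rcases hM with rfl | rfl | rfl | rfl | rfl | rfl | rfl
  · exact key a _ hA ha
  · exact key b _ hB hb.1
  · exact key d _ hD hd.1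
  · exact key (a * b) _ (hmul hA hB) hab
  · exact key (a * d) _ (hmul hA hD) had
  · exact key (b * d) _ (hmul hB hD) hbd
  · exact key (a * b * d) _ (hmul (hmul hA hB) hD) habd

variable {L : Type u} [Group L] {z : L} {F1 F4 : Type*} [Field F1] [Field F4]

/-- the centraliser of the first factor has index at most four -/
theorem card_cent_le [Finite L] (c : CenP z F1 F4) (h2 : (2 : F1) ≠ 0) {V : Subgroup L} (hz : ∀ n ∈ V, n * z = z * n)
    (hsq : ∀ n ∈ V, n * n = 1 ∨ n * n = z) :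
    ∃ A : Subgroup L, A ≤ V ∧ (∀ n ∈ A, ∀ w, n * c.r1 w = c.r1 w * n) ∧ Nat.card V ≤ 4 * Nat.card A := by
  choose M hM using fun n : V => c.act1 n (hz n n.2)
  let θ : V →* MulAut (SL F1) :=
    { toFun := fun n => conjGL (M n)
      map_one' := by
        ext1 w
        apply c.inj1
        rw [← hM]
        simp
      map_mul' := by
        intro n m
        ext1 w
        apply c.inj1
        rw [← hM, MulAut.mul_apply, ← hM, ← hM]
        push_cast
        group }
  have hθ : ∀ (n : V) w, (n : L) * c.r1 w * (n : L)⁻¹ = c.r1 (θ n w) := fun n w => hM n w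
  have hfin : Finite θ.range := Finite.of_surjective _ θ.rangeRestrict_surjective
  have h4 : Nat.card θ.range ≤ 4 := by
    refine card_le_four h2 ?_
    rintro _ ⟨n, rfl⟩
    refine ⟨⟨M n, rfl⟩, ?_⟩
    rw [← map_mul]
    ext1 w
    apply c.inj1
    rw [← hθ]
    rcases hsq n n.2 with h | h
    · rw [Subgroup.coe_mul, h]; simp
    · rw [Subgroup.coe_mul, h, MulAut.one_apply, ← c.z_r1, mul_inv_cancel_right]
  refine ⟨θ.ker.map V.subtype, Subgroup.map_subtype_le _, ?_, ?_⟩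
  · rintro _ ⟨n, hn, rfl⟩ w
    have h1 := hθ n w
    rw [show θ n = 1 from hn, MulAut.one_apply] at h1
    exact mul_inv_eq_iff_eq_mul.mp h1
  · have h1 : Nat.card (θ.ker.map V.subtype) = Nat.card θ.ker :=
      (Nat.card_congr (θ.ker.equivMapOfInjective _ V.subtype_injective).toEquiv).symm
    have h3 : Nat.card V = Nat.card θ.ker * Nat.card θ.range := by
      rw [← Subgroup.card_mul_index θ.ker, ← Nat.card_congr (QuotientGroup.quotientKerEquivRange θ).toEquiv]
      rfl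
    rw [h1, h3, mul_comm 4]
    exact Nat.mul_le_mul_left _ h4

/-- no configuration -/
theorem no_cfg [Finite L] (c : CenP z F1 F4) (h2 : (2 : F1) ≠ 0) (h2' : (2 : F4) ≠ 0) {V : Subgroup L}
    (hz : ∀ n ∈ V, n * z = z * n) (hsq : ∀ n ∈ V, n * n = 1 ∨ n * n = z) : Nat.card V ≤ 32 := by
  obtain ⟨A, hAV, hA, hVA⟩ := card_cent_le c h2 hz hsq
  obtain ⟨B, hBA, hB, hAB⟩ := card_cent_le c.symm h2' (V := A) (fun n hn => hz n (hAV hn)) (fun n hn => hsq n (hAV hn))
  have hB2 : Nat.card B ≤ 2 := by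
    classical
    have hsub : (B : Set L) ⊆ {1, z} := by
      intro n hn
      obtain ⟨y, hy⟩ := c.cen1 n (fun x => hA n (hBA hn) x)
      obtain ⟨x, hx⟩ := c.cen4 n (fun x => hB n hn x)
      rcases c.eq_of_inter (hx.trans hy.symm) with h | h
      · left
        rw [← hx, h, map_one]
      · right
        rw [← hx, h]
        exact c.z1
    calc Nat.card B = (B : Set L).ncard := rfl
      _ ≤ ({1, z} : Set L).ncard := Set.ncard_le_ncard hsub (Set.toFinite _)
      _ ≤ 2 := Set.ncard_insert_le _ _ |>.trans (by rw [Set.ncard_singleton])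
  omega

/-- **no configuration `CB` in `G₂(q)`, `³D₄(q)`, `q` odd** -/
theorem hex_false {G : Type u} [Group G] [Finite G] {F1 F4 : Type} [Field F1] [Field F4] (h : HexLike G F1 F4)
    {P N0 : Subgroup G} {z s : G} {ψ : ↥(normalizer (P : Set G)) →* Equiv.Perm (Fin 6)} (C : CB P N0 z s ψ) :
    False := by
  obtain ⟨c⟩ := h.all z C.z_sq C.z_ne
  have h1 := no_cfg c h.two1 h.two4 (V := N0) (fun n hn => C.z_cen n (C.NH hn)) C.sq
  rw [C.card] at h1
  omega

theorem g2_odd {G : Type u} [Group G] [Finite G] {F : Type} [Field F] [Fintype F] (h2 : (2 : F) ≠ 0)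
    (h : Nonempty (G ≃* ↥(Lie.chevG2.group F)))
    {P N0 : Subgroup G} {z s : G} {ψ : ↥(normalizer (P : Set G)) →* Equiv.Perm (Fin 6)} (C : CB P N0 z s ψ) :
    False := by
  obtain ⟨e⟩ := h
  have : Finite ↥(Lie.chevG2.group F) := Finite.of_equiv _ e.toEquiv
  have hL : HexLike ↥(Lie.chevG2.group F) F ↥(fx (RingEquiv.refl F)) :=
    hexLike_of (Cfsg.Agent.Cit.HexG2.g2 F h2) h2
  exact hex_false (hL.map e.symm) C

theorem td4_odd {G : Type u} [Group G] [Finite G] {K : Type} [Field K] [Fintype K] {q : ℕ} (h2 : (2 : K) ≠ 0)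
    (hK : Fintype.card K = q ^ 3) (h : Nonempty (G ≃* ↥(Lie.twistedD4 K q)))
    {P N0 : Subgroup G} {z s : G} {ψ : ↥(normalizer (P : Set G)) →* Equiv.Perm (Fin 6)} (C : CB P N0 z s ψ) :
    False := by
  obtain ⟨e⟩ := h
  have : Finite ↥(Lie.twistedD4 K q) := Finite.of_equiv _ e.toEquiv
  obtain ⟨σ, -, ⟨c⟩⟩ := Cfsg.Agent.Cit.HexD4.exists_d4 hK
  have hL : HexLike ↥(Lie.twistedD4 K q) K ↥(fx σ) := hexLike_of c h2
  exact hex_false (hL.map e.symm) C

/-- the order of the Ree groups is not divisible by `16` -/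
theorem ree_num (m : ℕ) :
    ¬ 16 ∣ (3 ^ (2 * m + 1)) ^ 3 * (3 ^ (2 * m + 1) - 1) * ((3 ^ (2 * m + 1)) ^ 3 + 1) := by
  have h1 : ((3 ^ (2 * m + 1) : ℕ) : ZMod 16) = 3 ∨ ((3 ^ (2 * m + 1) : ℕ) : ZMod 16) = 11 := by
    induction m with
    | zero => left; decide
    | succ m ih =>
      have e : 3 ^ (2 * (m + 1) + 1) = 3 ^ (2 * m + 1) * 9 := by ring
      rw [e, Nat.cast_mul]
      rcases ih with h | h <;> rw [h]
      · right; decide
      · left; decide
  have h3 : 1 ≤ 3 ^ (2 * m + 1) := Nat.one_le_pow _ _ (by norm_num)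
  intro h
  have h4 := (ZMod.natCast_eq_zero_iff _ 16).mpr h
  rw [Nat.cast_mul, Nat.cast_mul, Nat.cast_add, Nat.cast_pow (3 ^ (2 * m + 1)), Nat.cast_sub h3] at h4
  rcases h1 with h | h <;> rw [h] at h4 <;> revert h4 <;> decide

theorem row_ree : Cfsg.Agent.H527.Co3.Row.{u} @Lie.IsoRee := by
  rintro G _ _ _ ⟨K, iK, iF, m, -, hK, ⟨e⟩⟩ P N0 z s ψ C
  apply ree_num m
  rw [← Cfsg.Agent.S1069.result hK, ← Nat.card_congr e.toEquiv]
  have h1 := Subgroup.card_subgroup_dvd_card N0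
  rw [C.card] at h1
  exact (by norm_num : (16 : ℕ) ∣ 64).trans h1

end Cfsg.Agent.H165.Co3
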