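import Cfsg.Agent.H165.Co3.Hex
import Cfsg.Agent.H738.C3.Char2Rows

/-!
# S1920, case B: the rows `G₂(q)` and `³D₄(q)` (helper165)
-/

set_option autoImplicit false

namespace Cfsg.Agent.H165.Co3

open Subgroup Cfsg
open Cfsg.Agent.H13.Co3 (CB)

universe u

theorem charTwo {F : Type} [Field F] (h : (2 : F) = 0) : CharP F 2 :=
  CharTwo.of_one_ne_zero_of_two_eq_zero one_ne_zero h

theorem row_g2 : Cfsg.Agent.H527.Co3.Row.{u} @Lie.IsoChevG2 := by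
  rintro G _ _ _ ⟨F, iF, iFin, h3, he⟩ P N0 z s ψ C
  by_cases h2 : (2 : F) = 0
  · have := charTwo h2
    refine Cfsg.Agent.H738.C3.false_of_lieTwo C
      (Or.inr (Or.inr (Or.inr (Or.inr (Or.inr (Or.inr (Or.inl ⟨F, iF, iFin, this, Or.inl ⟨h3, he⟩⟩)))))))
  · exact g2_odd h2 he C

theorem row_td4 : Cfsg.Agent.H527.Co3.Row.{u} @Lie.Iso3D4 := by
  rintro G _ _ _ ⟨K, iF, iFin, q, hq, hK, he⟩ P N0 z s ψ C
  by_cases h2 : (2 : K) = 0
  · have := charTwo h2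
    refine Cfsg.Agent.H738.C3.false_of_lieTwo C
      (Or.inr (Or.inr (Or.inr (Or.inr (Or.inr (Or.inr (Or.inr (Or.inl ⟨K, iF, iFin, this, q, hq,
        Or.inr ⟨hK, he⟩⟩))))))))
  · exact td4_odd h2 hK he C

end Cfsg.Agent.H165.Co3
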